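import Groth.Agent.Fano.K924.ConI
import Groth.Agent.Fano.K745.StDef
import Mathlib.AlgebraicGeometry.ZariskisMainTheorem

/-!
# Families of maps from conics and matrices

Nodes P3, P3b, P4, P4b of the plan for S16939 (`Groth.Agent.Fano.K745.PlanS`): for two data `D`, `D'` of the same family there
is a unique matrix `g` with `x' = g x` and `φ = φ' g`; it is invertible and compatible with the equations of the conics;
conversely every such matrix comes from a datum; the matrix commutes with base change.  The nodes K4a (sections of `O(1)` on a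
conic) and K4b (forms vanishing on a conic) are hypotheses (`K924.ConI.NodeK4a`, `K924.ConI.NodeK4b`).
-/

set_option autoImplicit false

universe u

open CategoryTheory CategoryTheory.Limits AlgebraicGeometry

namespace K40.StMat

open K390.PnSec Groth.Agent.Fdesc.LocGen Groth.Agent.Dix.ProjProper K188.LineDef K745.ConDef K745.StDef
  W4swstmapratcurves K924.ConVan K924.ConI

section Geo

variable {T C : Scheme.{u}} {c c' : Fin 5 → Γ(T, ⊤)} {f : C ⟶ T} {L L' : C.Modules} {x : Fin 3 → Γ(L, ⊤)}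
  {x' : Fin 3 → Γ(L', ⊤)}

/-- `Cov` for the identity. -/
theorem cov_id_iff {g : Matrix (Fin 3) (Fin 3) Γ(T, ⊤)} : Cov f x x' (𝟙 C) g ↔
    ∃ τ : L' ≅ L, ∀ i, τ.hom.app ⊤ (x' i) = ∑ j, (f.appTop (g i j)) • x j := by
  constructor
  · rintro ⟨τ, hτ⟩
    refine ⟨(Scheme.Modules.pullbackId C).symm.app L' ≪≫ τ, fun i => ?_⟩
    rw [← hτ i]
    have h1 : ((Scheme.Modules.pullbackId C).inv.app L').app ⊤ (x' i) = pullTop (𝟙 C) (x' i) := by
      have h2 : ((Scheme.Modules.pullbackId C).inv.app L').app ⊤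
          (((Scheme.Modules.pullbackId C).hom.app L').app ⊤ (pullTop (𝟙 C) (x' i))) = pullTop (𝟙 C) (x' i) :=
        congr(($((Scheme.Modules.pullbackId C).hom_inv_id_app L').app ⊤) (pullTop (𝟙 C) (x' i)))
      rwa [pullTop_id] at h2
    exact congrArg (τ.hom.app ⊤) h1
  · rintro ⟨τ, hτ⟩
    refine ⟨(Scheme.Modules.pullbackId C).app L' ≪≫ τ, fun i => ?_⟩
    rw [← hτ i]
    exact congrArg (τ.hom.app ⊤) (pullTop_id (x' i))

/-- The sections `g⁻¹ x'`. -/
noncomputable def chg (f : C ⟶ T) (x' : Fin 3 → Γ(L', ⊤)) (g : Matrix (Fin 3) (Fin 3) Γ(T, ⊤)) (i : Fin 3) : Γ(L', ⊤) :=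
  ∑ j, (f.appTop (g⁻¹ i j)) • x' j

theorem sum_chg (g : Matrix (Fin 3) (Fin 3) Γ(T, ⊤)) (hg : IsUnit g.det) (i : Fin 3) :
    ∑ j, (f.appTop (g i j)) • chg f x' g j = x' i := by
  unfold chg
  rw [mul_sum_smul, Matrix.mul_nonsing_inv g hg, one_sum_smul]

/-- A conic in other coordinates. -/
theorem isCon_of_matrix (h' : IsCon c' f L' x') (g : Matrix (Fin 3) (Fin 3) Γ(T, ⊤)) (hg : IsUnit g.det)
    (w : Γ(T, ⊤)) (hw : IsUnit w) (hq : comp3 (qf c') g = MvPolynomial.C w * qf c) :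
    IsCon c f L' (chg f x' g) := by
  obtain ⟨w', hw'⟩ := hw.exists_left_inv
  have hq' : comp3 (qf c) g⁻¹ = MvPolynomial.C w' * qf c' := by
    have h1 : comp3 (comp3 (qf c') g) g⁻¹ = comp3 (MvPolynomial.C w * qf c) g⁻¹ := by rw [hq]
    rw [comp3_comp3, Matrix.mul_nonsing_inv g hg, comp3_one, comp3_C_mul] at h1
    rw [h1, ← mul_assoc, ← MvPolynomial.C_mul, hw', MvPolynomial.C_1, one_mul]
  have hv : Van f (chg f x' g) (qf c) := by
    refine van_comp3_iff.mpr ?_
    rw [hq']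
    exact van_C_mul (van_qf h') _
  have hgen : Gens (chg f x' g) :=
    gens_of_sum (f := f) (gens h') g fun j => (sum_chg g hg j).symm
  have hinv := isInvertible h'
  obtain ⟨r0, hr0⟩ := exists_givenBy' (chg f x' g) hgen
  have hp : IsProper f := by
    obtain ⟨ι', hι', -, hz⟩ := h'
    have := hz.isClosedImmersion
    rw [← hι']
    infer_instance
  have hbase : liftP r0 f ≫ pr2 T = f := liftP_toBase r0 f
  refine ⟨liftP r0 f, hbase, by rw [liftP_toZ]; exact hr0, ?_, ?_⟩
  · rw [IsClosedImmersion.iff_isProper_and_mono]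
    constructor
    · have h1 : IsProper (liftP r0 f ≫ pr2 T) := by rw [hbase]; exact hp
      exact MorphismProperty.of_postcomp (W := @IsProper) (W' := @IsSeparated) (liftP r0 f) (pr2 T) inferInstance h1
    · constructor
      intro Y a b hab
      have hf : a ≫ f = b ≫ f := by
        rw [← hbase, ← Category.assoc, hab, Category.assoc]
      have hr : b ≫ r0 = a ≫ r0 := by
        rw [← liftP_toZ r0 f, ← Category.assoc, ← hab, Category.assoc]
      have h1 := hr0.comp a
      have h2 := hr0.comp b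
      rw [hr] at h2
      obtain ⟨e, he⟩ := h2.exists_iso h1
      have h3 : ∀ i, e.hom.app ⊤ (pullTop b (x' i)) = pullTop a (x' i) := by
        intro i
        rw [← sum_chg (f := f) (x' := x') g hg i, app_pull_sum hf.symm, pullTop_sum_smul]
        refine Finset.sum_congr rfl fun j _ => ?_
        rw [he j, appTop_of_comp rfl]
      have h4 : Van (a ≫ f) (fun i => pullTop a (x' i)) (qf c') :=
        van_pull (van_qf h') (isHomogeneous_qf c') hinv a
      have h5 : Gens (fun i => pullTop a (x' i)) := by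
        obtain ⟨ι', -, hgb, -⟩ := h'
        exact (hgb.comp a).iSup_genLocus
      refine (K924.ConI.existsUnique_hom h' (a ≫ f) _ _ h5 h4).unique ⟨rfl, Iso.refl _, fun i => rfl⟩
        ⟨hf.symm, e, h3⟩
  · intro Y r
    constructor
    · rintro ⟨h, rfl⟩
      have h1 : GivenBy ((h ≫ liftP r0 f) ≫ toZ 2 T) _ (fun i => pullTop (h ≫ liftP r0 f) (crd 2 T i)) :=
        (GivenBy.refl (toZ 2 T)).comp _
      have h2 : GivenBy ((h ≫ liftP r0 f) ≫ toZ 2 T) _ (fun i => pullTop h (chg f x' g i)) := by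
        rw [Category.assoc, liftP_toZ]
        exact hr0.comp h
      obtain ⟨e, he⟩ := h1.exists_iso h2
      refine (van_iff_of_iso e he).mpr ?_
      rw [Category.assoc, hbase]
      exact van_pull hv (isHomogeneous_qf c) hinv h
    · intro hvan
      set M := (Scheme.Modules.pullback r).obj ((Scheme.Modules.pullback (toZ 2 T)).obj (O1 2 Z.{u})) with hM
      have h1 : GivenBy (r ≫ toZ 2 T) M (fun i => pullTop r (crd 2 T i)) := (GivenBy.refl (toZ 2 T)).comp r
      set y : Fin 3 → Γ(M, ⊤) := fun i => pullTop r (crd 2 T i) with hy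
      set q := r ≫ pr2 T with hqd
      -- the sections `g y`
      set y' : Fin 3 → Γ(M, ⊤) := fun i => ∑ j, (q.appTop (g i j)) • y j with hy'
      have h2 : Van q y' (qf c') := by
        refine van_comp3_iff.mpr ?_
        rw [hq]
        exact van_C_mul hvan _
      have h3 : ∀ i, ∑ j, (q.appTop (g⁻¹ i j)) • y' j = y i := by
        intro i
        rw [hy', mul_sum_smul, Matrix.nonsing_inv_mul g hg, one_sum_smul]
      have h4 : Gens y' := gens_of_sum (f := q) h1.iSup_genLocus (g⁻¹ : Matrix (Fin 3) (Fin 3) Γ(T, ⊤)) fun j => (h3 j).symm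
      obtain ⟨h, ⟨hh, τ, hτ⟩, -⟩ := K924.ConI.existsUnique_hom h' q M y' h4 h2
      refine ⟨h, hom_ext_over ?_ ?_⟩
      · rw [Category.assoc, liftP_toZ]
        have h5 := (hr0.comp h).of_iso τ
        have h6 : (fun i => τ.hom.app ⊤ (pullTop h (chg f x' g i))) = y := by
          funext i
          rw [← h3 i]
          unfold chg
          rw [app_pull_sum hh]
          exact Finset.sum_congr rfl fun j _ => by rw [hτ j]
        rw [h6] at h5
        exact h5.unique' h1
      · rw [Category.assoc]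
        exact (congrArg (h ≫ ·) hbase).trans hh

end Geo

variable {k : Type u} [Field k] {n d : ℕ} {G : LefPen.Form n k d}

/-- Node P3 (from K4a, K4c; compare E2). -/
theorem existsUnique_isMat (K4a : NodeK4a.{u}) {A : Fam G} (D D' : Datum A) :
    ∃! g : Matrix (Fin 3) (Fin 3) Γ(A.base.left, ⊤), IsMat D D' g := by
  obtain ⟨g, ⟨hg, hφ⟩, hu⟩ := existsUnique_matrix_aux (f := A.f) (f' := A.f) (x' := D'.x) K4a D.isCon D.φ D'.φ _ _
    D.givenBy D'.givenBy (𝟙 A.C) (Category.id_comp _) (Category.id_comp _)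
  refine ⟨g, ⟨hφ, cov_id_iff.mp hg⟩, fun g' hg' => hu g' ⟨cov_id_iff.mpr hg'.x, hg'.φ⟩⟩

/-- Node P3b (from K4a, K4b; compare E3). -/
theorem IsMat.isUnit (K4a : NodeK4a.{u}) (K4b : NodeK4b.{u}) {A : Fam G} {D D' : Datum A}
    {g : Matrix (Fin 3) (Fin 3) Γ(A.base.left, ⊤)} (H : IsMat D D' g) :
    IsUnit g.det ∧ ∃ w : Γ(A.base.left, ⊤), IsUnit w ∧ comp3 (qf D'.c) g = MvPolynomial.C w * qf D.c :=
  isUnit_det_of_cov K4a K4b D.isCon D'.isCon (𝟙 A.C) (Category.id_comp _) inferInstance g (cov_id_iff.mpr H.x)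

/-- Node P4. -/
theorem exists_datum_of_matrix {A : Fam G} (D' : Datum A) (g : Matrix (Fin 3) (Fin 3) Γ(A.base.left, ⊤))
    (hg : IsUnit g.det) (c : Fin 5 → Γ(A.base.left, ⊤)) (w : Γ(A.base.left, ⊤)) (hw : IsUnit w)
    (hq : comp3 (qf D'.c) g = MvPolynomial.C w * qf c) : ∃ D : Datum A, D.c = c ∧ IsMat D D' g := by
  have hs : msec A.f (chg A.f D'.x g) (fun l j => ∑ i, D'.φ l i * g i j) = msec A.f D'.x D'.φ := by
    funext l
    have h1 : msec A.f (chg A.f D'.x g) (fun l j => ∑ i, D'.φ l i * g i j) l =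
        ∑ i, (A.f.appTop (D'.φ l i)) • ∑ j, (A.f.appTop (g i j)) • chg A.f D'.x g j := by
      simp only [msec, map_sum, map_mul, Finset.smul_sum, Finset.sum_smul, smul_smul]
      rw [Finset.sum_comm]
    rw [h1]
    exact Finset.sum_congr rfl fun i _ => by rw [sum_chg g hg i]
  refine ⟨{ c := c, φ := fun l j => ∑ i, D'.φ l i * g i j, L := D'.L, x := chg A.f D'.x g,
            isCon := isCon_of_matrix D'.isCon g hg w hw hq, givenBy := by rw [hs]; exact D'.givenBy }, rfl,
    ⟨fun l j => rfl, Iso.refl _, fun i => (sum_chg g hg i).symm⟩⟩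

/-- Node P4b. -/
theorem IsMat.pull {A A' : Fam G} {D D' : Datum A} {E E' : Datum A'} {h : A ⟶ A'} (H : IsPull D E h)
    (H' : IsPull D' E' h) {g : Matrix (Fin 3) (Fin 3) Γ(A'.base.left, ⊤)} (hg : IsMat E E' g) :
    IsMat D D' (g.map (pb h.hom.base.left)) := by
  refine ⟨fun l j => ?_, ?_⟩
  · rw [H.φ l j, hg.φ l j]
    simp only [pb, map_sum, map_mul, Matrix.map_apply]
    exact Finset.sum_congr rfl fun i _ => by rw [H'.φ l i]
  · obtain ⟨τ₁, h1⟩ := H.x
    obtain ⟨τ₂, h2⟩ := H'.x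
    obtain ⟨σ, hσ⟩ := hg.x
    refine ⟨τ₂.symm ≪≫ (Scheme.Modules.pullback h.hom.top).mapIso σ ≪≫ τ₁, fun i => ?_⟩
    have h3 : τ₂.inv.app ⊤ (D'.x i) = pullTop h.hom.top (E'.x i) := by
      rw [← h2 i]
      exact congr(($(τ₂.hom_inv_id).app ⊤) (pullTop h.hom.top (E'.x i)))
    have h4 : ((Scheme.Modules.pullback h.hom.top).map σ.hom).app ⊤ (pullTop h.hom.top (E'.x i)) =
        pullTop h.hom.top (σ.hom.app ⊤ (E'.x i)) := pullback_map_pullSec h.hom.top σ.hom (U := ⊤) _
    have h5 : (τ₂.symm ≪≫ (Scheme.Modules.pullback h.hom.top).mapIso σ ≪≫ τ₁).hom.app ⊤ (D'.x i) =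
        τ₁.hom.app ⊤ (((Scheme.Modules.pullback h.hom.top).map σ.hom).app ⊤ (τ₂.inv.app ⊤ (D'.x i))) := rfl
    rw [h5, h3, h4, hσ i, pullTop_sum_smul, app_sum_smul]
    refine Finset.sum_congr rfl fun j _ => ?_
    rw [h1 j]
    congr 1
    exact (appTop_of_comp h.hom.cart.w (g i j)).trans (by rw [Scheme.Hom.comp_appTop]; rfl)

end K40.StMat
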