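import Groth.Agent.Fano.K470.CurDef
import Groth.Agent.Fano.K714.Zeros

/-!
# Three lines through a general point of a cubic threefold (CL6 of S16526)

`three_of_first`: if all lines of the smooth cubic threefold through `x` are of first type then there are three lines through
`x`, no two equal.  `exists_three`: node `PlanLine.exists_three` from the nodes `exists_general_point` and `exists_first`.
-/

set_option autoImplicit false
set_option linter.unusedSimpArgs false

universe u

namespace K40.ThreeLines

open LefPen Groth.Agent.Lefpen.H703.ZOpen Module K714.Irr K714.Frames K470.Cur K656.Trilin K714.Surf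

variable {k : Type u} [Field k]

section LinAlg

variable {V : Type u} [AddCommGroup V] [Module k V]

theorem li3 {x u v : V} (h : ∀ a b c : k, a • x + b • u + c • v = 0 → a = 0 ∧ b = 0 ∧ c = 0) :
    LinearIndependent k ![x, u, v] := by
  rw [Fintype.linearIndependent_iff]
  intro g hg
  rw [Fin.sum_univ_three] at hg
  obtain ⟨h0, h1, h2⟩ := h (g 0) (g 1) (g 2) hg
  intro i
  fin_cases i <;> assumption

theorem li2 {x u : V} (h : ∀ a b : k, a • x + b • u = 0 → a = 0 ∧ b = 0) : LinearIndependent k ![x, u] := by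
  rw [Fintype.linearIndependent_iff]
  intro g hg
  rw [Fin.sum_univ_two] at hg
  obtain ⟨h0, h1⟩ := h (g 0) (g 1) hg
  intro i
  fin_cases i <;> assumption

/-- Prescribed values for three independent functionals. -/
theorem exists_values [FiniteDimensional k V] {f g h : V →ₗ[k] k} (hi : LinearIndependent k ![f, g, h]) (a b c : k) :
    ∃ v, f v = a ∧ g v = b ∧ h v = c := by
  let φ : V →ₗ[k] (Fin 3 → k) := LinearMap.pi ![f, g, h]
  have hs : Function.Surjective φ := by
    rw [← LinearMap.range_eq_top]
    by_contra hne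
    obtain ⟨l, hl, hl'⟩ := Submodule.exists_dual_map_eq_bot_of_lt_top (lt_top_iff_ne_top.mpr hne) inferInstance
    apply hl
    have h1 : ∀ v, l (φ v) = 0 := fun v => by
      have : l (φ v) ∈ (LinearMap.range φ).map l := Submodule.mem_map_of_mem ⟨v, rfl⟩
      rw [hl'] at this
      exact this
    have h2 : l (Pi.single 0 1) • f + l (Pi.single 1 1) • g + l (Pi.single 2 1) • h = 0 := by
      ext v
      have h3 : φ v = f v • Pi.single 0 1 + g v • Pi.single 1 1 + h v • Pi.single 2 1 := by
        funext i
        fin_cases i <;> simp [φ]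
      have h4 := h1 v
      rw [h3, map_add, map_add, map_smul, map_smul, map_smul] at h4
      simp only [smul_eq_mul] at h4
      simp only [LinearMap.add_apply, LinearMap.smul_apply, smul_eq_mul, LinearMap.zero_apply]
      linear_combination h4
    rw [Fintype.linearIndependent_iff] at hi
    have h5 := hi ![l (Pi.single 0 1), l (Pi.single 1 1), l (Pi.single 2 1)] (by
      rw [Fin.sum_univ_three]
      exact h2)
    apply LinearMap.pi_ext'
    intro i
    ext
    fin_cases i
    · exact h5 0
    · exact h5 1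
    · exact h5 2
  obtain ⟨v, hv⟩ := hs ![a, b, c]
  exact ⟨v, congrFun hv 0, congrFun hv 1, congrFun hv 2⟩

/-- Three independent functionals on a space of dimension five do not vanish on three independent vectors. -/
theorem not_vanish [FiniteDimensional k V] (h5 : finrank k V = 5) {f : Fin 3 → (V →ₗ[k] k)} (hf : LinearIndependent k f)
    {v : Fin 3 → V} (hv : LinearIndependent k v) (h : ∀ i j, f i (v j) = 0) : False := by
  have h1 : finrank k (Submodule.span k (Set.range v)) = 3 := by
    rw [finrank_span_eq_card hv, Fintype.card_fin]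
  have h2 : finrank k (Submodule.span k (Set.range f)) = 3 := by
    rw [finrank_span_eq_card hf, Fintype.card_fin]
  have h3 : Submodule.span k (Set.range f) ≤ (Submodule.span k (Set.range v)).dualAnnihilator := by
    rw [Submodule.span_le]
    rintro _ ⟨i, rfl⟩
    rw [SetLike.mem_coe, Submodule.mem_dualAnnihilator]
    intro w hw
    induction hw using Submodule.span_induction with
    | mem w hw =>
      obtain ⟨j, rfl⟩ := hw
      exact h i j
    | zero => exact map_zero _
    | add a b _ _ ha hb => rw [map_add, ha, hb, add_zero]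
    | smul c a _ ha => rw [map_smul, ha, smul_zero]
  have h4 := Submodule.finrank_mono h3
  have h6 : finrank k (Submodule.span k (Set.range v)) +
      finrank k (Submodule.span k (Set.range v)).dualAnnihilator = finrank k V :=
    Subspace.finrank_add_finrank_dualAnnihilator_eq (Submodule.span k (Set.range v))
  rw [h1, h5] at h6
  have h7 := h2.symm.le.trans h4
  have h8 := (Nat.add_le_add_left h7 3).trans_eq h6
  omega

end LinAlg

/-- A polynomial of degree at least two with simple roots has two different roots. -/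
theorem exists_two_roots [IsAlgClosed k] (G : Polynomial k) (hG : 2 ≤ G.natDegree)
    (h : ∀ r, G.eval r = 0 → (Polynomial.derivative G).eval r ≠ 0) : ∃ r s, r ≠ s ∧ G.eval r = 0 ∧ G.eval s = 0 := by
  classical
  have hG0 : G ≠ 0 := by
    rintro rfl
    simp at hG
  have h1 : Multiset.card G.roots = G.natDegree := (IsAlgClosed.splits G).natDegree_eq_card_roots.symm
  have h2 : G.roots.Nodup := by
    rw [Multiset.nodup_iff_count_le_one]
    intro r
    rw [Polynomial.count_roots]
    by_contra hlt
    push Not at hlt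
    have h3 := (Polynomial.one_lt_rootMultiplicity_iff_isRoot hG0).mp hlt
    exact h r h3.1 h3.2
  have h3 : 1 < G.roots.toFinset.card := by
    rw [Multiset.toFinset_card_of_nodup h2, h1]
    omega
  obtain ⟨r, hr, s, hs, hrs⟩ := Finset.one_lt_card.mp h3
  rw [Multiset.mem_toFinset, Polynomial.mem_roots hG0] at hr hs
  exact ⟨r, s, hrs, hr, hs⟩

variable {T : (Fin 5 → k) →ₗ[k] (Fin 5 → k) →ₗ[k] (Fin 5 → k) →ₗ[k] k}

/-- Simple roots. -/
theorem ne_zero_of_first (hT : IsSym3 T) {x P P' : Fin 5 → k} (hP : (x, P) ∈ FR T) (hF : First T x P)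
    (h1 : T x x P' = 0) (h2 : T x P P' = 0) (hi : LinearIndependent k ![x, P, P']) : T P P P' ≠ 0 := by
  intro h3
  obtain ⟨-, e1, e2, e3, e4⟩ := hP
  dsimp only at e1 e2 e3 e4
  refine not_vanish (by simp) hF hi fun i j => ?_
  fin_cases i <;> fin_cases j
  · exact e1
  · exact e2
  · exact h1
  · exact (hT.s23 x P x).trans e2
  · exact e3
  · exact h2
  · exact (hT.rot' P P x).trans e3
  · exact e4
  · exact h3

/-- A line through a point. -/
theorem exists_line [IsAlgClosed k] {x : Fin 5 → k} (hx0 : x ≠ 0) (hx : T x x x = 0) : ∃ p, (x, p) ∈ FR T := by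
  obtain ⟨i0, hi0⟩ := Function.ne_iff.mp hx0
  let X : Fin 5 → MvPolynomial (Fin 5) k := fun i => MvPolynomial.X i
  let Cx : Fin 5 → MvPolynomial (Fin 5) k := fun i => MvPolynomial.C (x i)
  have hX : ∀ v : Fin 5 → k, (fun i => MvPolynomial.eval v (X i)) = v := fun v => by funext i; simp [X]
  have hC : ∀ v : Fin 5 → k, (fun i => MvPolynomial.eval v (Cx i)) = x := fun v => by funext i; simp [Cx]
  have hd : ∀ (u v w : Fin 5 → MvPolynomial (Fin 5) k) (a b c : ℕ), (∀ i, (u i).IsHomogeneous a) →
      (∀ i, (v i).IsHomogeneous b) → (∀ i, (w i).IsHomogeneous c) → (pT T u v w).IsHomogeneous (a + b + c) := by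
    intro u v w a b c hu hv hw
    refine MvPolynomial.IsHomogeneous.sum _ _ _ fun i _ => MvPolynomial.IsHomogeneous.sum _ _ _ fun j _ =>
      MvPolynomial.IsHomogeneous.sum _ _ _ fun l _ => ?_
    have := (MvPolynomial.isHomogeneous_C (Fin 5) (T (Pi.single i 1) (Pi.single j 1) (Pi.single l 1))).mul
      (((hu i).mul (hv j)).mul (hw l))
    rwa [zero_add] at this
  have hXh : ∀ i, (X i).IsHomogeneous 1 := fun i => MvPolynomial.isHomogeneous_X k i
  have hCh : ∀ i, (Cx i).IsHomogeneous 0 := fun i => MvPolynomial.isHomogeneous_C _ _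
  obtain ⟨p, hp0, hp⟩ := K714.Zeros.exists_ne_zero (N := 5) (ι := Fin 4) (by simp) ![1, 1, 2, 3]
    (by intro i; fin_cases i <;> simp) ![X i0, pT T Cx Cx X, pT T Cx X X, pT T X X X] (by
      intro i
      fin_cases i
      · exact hXh i0
      · exact hd _ _ _ 0 0 1 hCh hCh hXh
      · exact hd _ _ _ 0 1 1 hCh hXh hXh
      · exact hd _ _ _ 1 1 1 hXh hXh hXh)
  have h0 : p i0 = 0 := by have := hp 0; simpa [X] using this
  have h1 : T x x p = 0 := by
    have := hp 1
    change MvPolynomial.eval p (pT T Cx Cx X) = 0 at this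
    rwa [eval_pT, hX, hC] at this
  have h2 : T x p p = 0 := by
    have := hp 2
    change MvPolynomial.eval p (pT T Cx X X) = 0 at this
    rwa [eval_pT, hX, hC] at this
  have h3 : T p p p = 0 := by
    have := hp 3
    change MvPolynomial.eval p (pT T X X X) = 0 at this
    rwa [eval_pT, hX] at this
  refine ⟨p, ?_, hx, h1, h2, h3⟩
  refine li2 fun a b hab => ?_
  have h4 := congrFun hab i0
  simp only [Pi.add_apply, Pi.smul_apply, h0, smul_eq_mul, mul_zero, add_zero, Pi.zero_apply] at h4
  have ha : a = 0 := (mul_eq_zero.mp h4).resolve_right hi0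
  refine ⟨ha, ?_⟩
  rw [ha, zero_smul, zero_add] at hab
  exact (smul_eq_zero.mp hab).resolve_right hp0

theorem li3_swap {x u v : Fin 5 → k} (h : LinearIndependent k ![x, u, v]) : LinearIndependent k ![x, v, u] := by
  refine li3 fun a b c habc => ?_
  have h1 := Fintype.linearIndependent_iff.mp h ![a, c, b] (by
    rw [Fin.sum_univ_three]
    change a • x + c • u + b • v = 0
    rw [← habc]
    abel)
  exact ⟨h1 0, h1 2, h1 1⟩

theorem mk_three {x a b c : Fin 5 → k} (ha : (x, a) ∈ FR T) (hb : (x, b) ∈ FR T) (hc : (x, c) ∈ FR T)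
    (hab : LinearIndependent k ![x, a, b]) (hac : LinearIndependent k ![x, a, c])
    (hbc : LinearIndependent k ![x, b, c]) :
    ∃ p : Fin 3 → Fin 5 → k, (∀ i, (x, p i) ∈ FR T) ∧ ∀ i j, i ≠ j → LinearIndependent k ![x, p i, p j] := by
  refine ⟨![a, b, c], fun i => ?_, fun i j hij => ?_⟩
  · fin_cases i
    · exact ha
    · exact hb
    · exact hc
  · fin_cases i <;> fin_cases j
    · exact absurd rfl hij
    · exact hab
    · exact hac
    · exact li3_swap hab
    · exact absurd rfl hij
    · exact hbc
    · exact li3_swap hac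
    · exact li3_swap hbc
    · exact absurd rfl hij

/-- If all lines through `x` are of first type then there are three lines through `x`, no two equal. -/
theorem three_of_first [IsAlgClosed k] [CharZero k] (hT : IsSym3 T) {x : Fin 5 → k} (hx0 : x ≠ 0) (hx : T x x x = 0)
    (hfirst : ∀ p, (x, p) ∈ FR T → First T x p) :
    ∃ p : Fin 3 → Fin 5 → k, (∀ i, (x, p i) ∈ FR T) ∧ ∀ i j, i ≠ j → LinearIndependent k ![x, p i, p j] := by
  obtain ⟨P, hP⟩ := exists_line hx0 hx
  have hF := hfirst P hP
  obtain ⟨hli, -, xxP, xPP, PPP⟩ := id hP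
  dsimp only at hli xxP xPP PPP
  have hli' : ∀ a b : k, a • x + b • P = 0 → a = 0 ∧ b = 0 := by
    intro a b h
    have := LinearIndependent.pair_iff.mp hli a b h
    exact this
  -- adapted basis
  obtain ⟨e2, xxe2, xPe2, PPe2, xe22⟩ : ∃ e2, T x x e2 = 0 ∧ T x P e2 = 1 ∧ T P P e2 = 0 ∧ T x e2 e2 = 0 := by
    obtain ⟨e, h1, h2, h3⟩ := exists_values hF 0 1 0
    refine ⟨e + (-(T x e e / 2)) • P, ?_, ?_, ?_, ?_⟩
    · rw [map_add, map_smul, h1, xxP, smul_zero, add_zero]
    · rw [map_add, map_smul, h2, xPP, smul_zero, add_zero]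
    · rw [map_add, map_smul, h3, PPP, smul_zero, add_zero]
    · have h4 : T x e P = 1 := (hT.s23 x e P).trans h2
      simp only [map_add, map_smul, LinearMap.add_apply, LinearMap.smul_apply, smul_eq_mul, h2, h4, xPP]
      ring
  obtain ⟨e1, xxe1, xPe1, PPe1, xe12⟩ : ∃ e1, T x x e1 = 0 ∧ T x P e1 = 0 ∧ T P P e1 = 1 ∧ T x e1 e2 = 0 := by
    obtain ⟨e, h1, h2, h3⟩ := exists_values hF 0 0 1
    refine ⟨e + (-(T x e e2)) • P, ?_, ?_, ?_, ?_⟩
    · rw [map_add, map_smul, h1, xxP, smul_zero, add_zero]
    · rw [map_add, map_smul, h2, xPP, smul_zero, add_zero]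
    · rw [map_add, map_smul, h3, PPP, smul_zero, add_zero]
    · simp only [map_add, map_smul, LinearMap.add_apply, LinearMap.smul_apply, smul_eq_mul, xPe2]
      ring
  -- consequences of symmetry
  have s12 := hT.s12
  have s23 := hT.s23
  have xPP' : T P P x = 0 := (hT.rot' P P x).trans xPP
  by_cases hA : T x e1 e1 = 0
  · -- two lines
    have hx1 : ∀ r : k, T x x (r • P + e1) = 0 := fun r => by rw [map_add, map_smul, xxP, xxe1]; simp
    have hx2 : ∀ r : k, T x (r • P + e1) (r • P + e1) = 0 := fun r => by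
      have h4 : T x e1 P = 0 := (hT.s23 x e1 P).trans xPe1
      simp only [map_add, map_smul, LinearMap.add_apply, LinearMap.smul_apply, smul_eq_mul, xPP, xPe1, hA, h4]
      ring
    have hc : ∀ r : k, T (r • P + e1) (r • P + e1) (r • P + e1) = 3 * r ^ 2 + 3 * r * T P e1 e1 + T e1 e1 e1 := fun r => by
      have := hT.cube_smul_add_smul P e1 r 1
      rw [one_smul, PPP, PPe1] at this
      rw [this]
      ring
    have hFR : ∀ r : k, 3 * r ^ 2 + 3 * r * T P e1 e1 + T e1 e1 e1 = 0 → (x, r • P + e1) ∈ FR T := fun r hr => by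
      refine ⟨li2 fun a b hab => ?_, hx, hx1 r, hx2 r, (hc r).trans hr⟩
      have h1 : b = 0 := by
        have := congrArg (T P P) hab
        rw [map_add, map_smul, map_smul, map_add, map_smul, xPP', PPP, PPe1, map_zero] at this
        simpa using this
      subst h1
      rw [zero_smul, add_zero] at hab
      exact ⟨(smul_eq_zero.mp hab).resolve_right hx0, rfl⟩
    let G : Polynomial k := Polynomial.C 3 * Polynomial.X ^ 2 + Polynomial.C (3 * T P e1 e1) * Polynomial.X +
      Polynomial.C (T e1 e1 e1)
    have hGe : ∀ r, G.eval r = 3 * r ^ 2 + 3 * r * T P e1 e1 + T e1 e1 e1 := fun r => by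
      simp only [G, Polynomial.eval_add, Polynomial.eval_mul, Polynomial.eval_C, Polynomial.eval_pow, Polynomial.eval_X]
      ring
    have hGd : ∀ r, (Polynomial.derivative G).eval r = 3 * T (r • P + e1) (r • P + e1) P := fun r => by
      have h4 := hT.sq_smul_add_smul P e1 P r 1
      rw [one_smul, PPP, show T P e1 P = 1 from (hT.s23 P e1 P).trans PPe1,
        show T e1 e1 P = T P e1 e1 from hT.rot' e1 e1 P] at h4
      rw [h4]
      simp only [G, Polynomial.derivative_add, Polynomial.derivative_mul, Polynomial.derivative_C,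
        Polynomial.derivative_X_pow, Polynomial.derivative_X, Polynomial.eval_add, Polynomial.eval_mul,
        Polynomial.eval_C, Polynomial.eval_pow, Polynomial.eval_X, Polynomial.eval_zero, Polynomial.eval_one]
      simp
      ring
    have hdeg : G.natDegree = 2 := by
      have h3 : (3 : k) ≠ 0 := by norm_num
      exact Polynomial.natDegree_quadratic h3
    obtain ⟨r, s, hrs, hr, hs⟩ := exists_two_roots G hdeg.ge fun r hr => by
      rw [hGd]
      rw [hGe] at hr
      refine mul_ne_zero (by norm_num) (ne_zero_of_first hT (hFR r hr) (hfirst _ (hFR r hr)) xxP ?_ ?_)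
      · have h4 : T x e1 P = 0 := (hT.s23 x e1 P).trans xPe1
        simp only [map_add, map_smul, LinearMap.add_apply, LinearMap.smul_apply, smul_eq_mul, xPP, h4]
        ring
      · refine li3 fun a b c h => ?_
        have h1 : b = 0 := by
          have := congrArg (T P P) h
          rw [map_add, map_add, map_smul, map_smul, map_smul, map_add, map_smul, xPP', PPP, PPe1, map_zero] at this
          simpa using this
        subst h1
        rw [zero_smul, add_zero] at h
        exact ⟨(hli' a c h).1, rfl, (hli' a c h).2⟩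
    rw [hGe] at hr hs
    have hPr : ∀ r : k, LinearIndependent k ![x, P, r • P + e1] := fun r => by
      refine li3 fun a b c h => ?_
      have h1 : c = 0 := by
        have := congrArg (T P P) h
        rw [map_add, map_add, map_smul, map_smul, map_smul, map_add, map_smul, xPP', PPP, PPe1, map_zero] at this
        simpa using this
      subst h1
      rw [zero_smul, add_zero] at h
      exact ⟨(hli' a b h).1, (hli' a b h).2, rfl⟩
    refine mk_three hP (hFR r hr) (hFR s hs) (hPr r) (hPr s) (li3 fun a b c h => ?_)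
    have h1 : b + c = 0 := by
      have := congrArg (T P P) h
      rw [map_add, map_add, map_smul, map_smul, map_smul, map_add, map_add, map_smul, map_smul, xPP', PPP, PPe1,
        map_zero] at this
      simpa using this
    have h2 : c = -b := by linear_combination h1
    subst h2
    have h3 : a • x + (b * (r - s)) • P = 0 := by
      rw [← h]
      module
    obtain ⟨h4, h5⟩ := hli' _ _ h3
    have h6 : b = 0 := (mul_eq_zero.mp h5).resolve_right (sub_ne_zero.mpr hrs)
    exact ⟨h4, h6, by rw [h6, neg_zero]⟩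
  · -- a smooth conic
    obtain ⟨μ, hμ⟩ : ∃ μ : k, T x e1 e1 = -(2 * μ) := ⟨-(T x e1 e1 / 2), by ring⟩
    have hμ0 : μ ≠ 0 := by
      rintro rfl
      exact hA (by rw [hμ]; ring)
    have t1 : T P e1 P = 1 := (s23 P e1 P).trans PPe1
    have t2 : T e1 P P = 1 := (s12 e1 P P).trans t1
    have t3 : T P e2 P = 0 := (s23 P e2 P).trans PPe2
    have t4 : T e2 P P = 0 := (s12 e2 P P).trans t3
    have t5 : T e1 P e1 = T P e1 e1 := s12 _ _ _
    have t6 : T e1 e1 P = T P e1 e1 := hT.rot' _ _ _
    have t7 : T e1 P e2 = T P e1 e2 := s12 _ _ _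
    have t8 : T P e2 e1 = T P e1 e2 := s23 _ _ _
    have t9 : T e2 P e1 = T P e1 e2 := (s12 _ _ _).trans t8
    have t10 : T e1 e2 P = T P e1 e2 := hT.rot' _ _ _
    have t11 : T e2 e1 P = T P e1 e2 := (hT.rot' _ _ _).trans t8
    have t12 : T e2 P e2 = T P e2 e2 := s12 _ _ _
    have t13 : T e2 e2 P = T P e2 e2 := hT.rot' _ _ _
    have t14 : T e1 e2 e1 = T e1 e1 e2 := s23 _ _ _
    have t15 : T e2 e1 e1 = T e1 e1 e2 := (s12 _ _ _).trans t14
    have t16 : T e2 e1 e2 = T e1 e2 e2 := s12 _ _ _
    have t17 : T e2 e2 e1 = T e1 e2 e2 := hT.rot' _ _ _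
    have u1 : T x e1 P = 0 := (s23 x e1 P).trans xPe1
    have u2 : T x e2 P = 1 := (s23 x e2 P).trans xPe2
    have u3 : T x e2 e1 = 0 := (s23 x e2 e1).trans xe12
    let Q : k → Fin 5 → k := fun r => (μ * r ^ 2) • P + r • e1 + e2
    have hQ : ∀ r, Q r = (μ * r ^ 2) • P + r • e1 + e2 := fun r => rfl
    have hx1 : ∀ r : k, T x x (Q r) = 0 := fun r => by
      rw [hQ, map_add, map_add, map_smul, map_smul, xxP, xxe1, xxe2]; simp
    have hx2 : ∀ r : k, T x (Q r) (Q r) = 0 := fun r => by
      simp only [hQ, map_add, map_smul, LinearMap.add_apply, LinearMap.smul_apply, smul_eq_mul, xPP, xPe1, xPe2, hμ,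
        xe12, xe22, u1, u2, u3]
      ring
    have hPP : ∀ r : k, T P P (Q r) = r := fun r => by
      rw [hQ, map_add, map_add, map_smul, map_smul, PPP, PPe1, PPe2]; simp
    have hxP : ∀ r : k, T x P (Q r) = 1 := fun r => by
      rw [hQ, map_add, map_add, map_smul, map_smul, xPP, xPe1, xPe2]; simp
    let G : Polynomial k := Polynomial.C (3 * μ ^ 2) * Polynomial.X ^ 5 +
      Polynomial.C (3 * μ * T P e1 e1) * Polynomial.X ^ 4 +
      Polynomial.C (6 * μ * T P e1 e2 + T e1 e1 e1) * Polynomial.X ^ 3 +
      Polynomial.C (3 * μ * T P e2 e2 + 3 * T e1 e1 e2) * Polynomial.X ^ 2 +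
      Polynomial.C (3 * T e1 e2 e2) * Polynomial.X + Polynomial.C (T e2 e2 e2)
    have hGe : ∀ r, G.eval r = T (Q r) (Q r) (Q r) := fun r => by
      simp only [hQ, map_add, map_smul, LinearMap.add_apply, LinearMap.smul_apply, smul_eq_mul, PPP, PPe1, PPe2,
        t1, t2, t3, t4, t5, t6, t7, t8, t9, t10, t11, t12, t13, t14, t15, t16, t17, G, Polynomial.eval_add,
        Polynomial.eval_mul, Polynomial.eval_C, Polynomial.eval_pow, Polynomial.eval_X]
      ring
    have hGd : ∀ r, (Polynomial.derivative G).eval r = 3 * T (Q r) (Q r) ((2 * μ * r) • P + e1) := fun r => by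
      simp only [hQ, map_add, map_smul, LinearMap.add_apply, LinearMap.smul_apply, smul_eq_mul, PPP, PPe1, PPe2,
        t1, t2, t3, t4, t5, t6, t7, t8, t9, t10, t11, t12, t13, t14, t15, t16, t17, G, Polynomial.derivative_add,
        Polynomial.derivative_mul, Polynomial.derivative_C,
        Polynomial.derivative_X_pow, Polynomial.derivative_X, Polynomial.eval_add, Polynomial.eval_mul,
        Polynomial.eval_C, Polynomial.eval_pow, Polynomial.eval_X, Polynomial.eval_zero, Polynomial.eval_one]
      simp
      ring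
    have hdeg : G.natDegree = 5 := by
      have h3 : (3 : k) * μ ^ 2 ≠ 0 := mul_ne_zero (by norm_num) (pow_ne_zero 2 hμ0)
      simp only [G]
      compute_degree!
    have hFR : ∀ r : k, G.eval r = 0 → (x, Q r) ∈ FR T := fun r hr => by
      refine ⟨li2 fun a b hab => ?_, hx, hx1 r, hx2 r, (hGe r).symm.trans hr⟩
      have h1 : b = 0 := by
        have := congrArg (T x P) hab
        rw [map_add, map_smul, map_smul, hxP, s23 x P x, xxP, map_zero] at this
        simpa using this
      subst h1
      change a • x + (0 : k) • Q r = 0 at hab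
      rw [zero_smul, add_zero] at hab
      exact ⟨(smul_eq_zero.mp hab).resolve_right hx0, rfl⟩
    obtain ⟨r, s, hrs, hr, hs⟩ := exists_two_roots G (by rw [hdeg]; norm_num) fun r hr => by
      rw [hGd]
      refine mul_ne_zero (by norm_num) (ne_zero_of_first hT (hFR r hr) (hfirst _ (hFR r hr)) ?_ ?_ ?_)
      · rw [map_add, map_smul, xxP, xxe1]; simp
      · simp only [hQ, map_add, map_smul, LinearMap.add_apply, LinearMap.smul_apply, smul_eq_mul, xPP, xPe1, xPe2, hμ,
          xe12, xe22, u1, u2, u3]
        ring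
      · refine li3 fun a b c h => ?_
        have h1 : b = 0 := by
          have := congrArg (T x P) h
          rw [map_add, map_add, map_smul, map_smul, map_smul, hxP, map_add, map_smul, s23 x P x, xxP, xPP, xPe1,
            map_zero] at this
          simpa using this
        subst h1
        rw [zero_smul, add_zero] at h
        have h2 : c = 0 := by
          have := congrArg (T P P) h
          rw [map_add, map_smul, map_smul, map_add, map_smul, xPP', PPP, PPe1, map_zero] at this
          simpa using this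
        subst h2
        rw [zero_smul, add_zero] at h
        exact ⟨(smul_eq_zero.mp h).resolve_right hx0, rfl, rfl⟩
    have hPr : ∀ r : k, LinearIndependent k ![x, P, Q r] := fun r => by
      refine li3 fun a b c h => ?_
      have h1 : c = 0 := by
        have := congrArg (T x P) h
        rw [map_add, map_add, map_smul, map_smul, map_smul, hxP, s23 x P x, xxP, xPP, map_zero] at this
        simpa using this
      subst h1
      rw [zero_smul, add_zero] at h
      exact ⟨(hli' a b h).1, (hli' a b h).2, rfl⟩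
    refine mk_three hP (hFR r hr) (hFR s hs) (hPr r) (hPr s) (li3 fun a b c h => ?_)
    have h1 : b + c = 0 := by
      have := congrArg (T x P) h
      rw [map_add, map_add, map_smul, map_smul, map_smul, hxP, hxP, s23 x P x, xxP, map_zero] at this
      simpa using this
    have h2 : b * r + c * s = 0 := by
      have := congrArg (T P P) h
      rw [map_add, map_add, map_smul, map_smul, map_smul, hPP, hPP, xPP', map_zero] at this
      simpa using this
    have h3 : b * (r - s) = 0 := by linear_combination h2 - s * h1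
    have h4 : b = 0 := (mul_eq_zero.mp h3).resolve_right (sub_ne_zero.mpr hrs)
    have h5 : c = 0 := by linear_combination h1 - h4
    subst h4 h5
    rw [zero_smul, zero_smul, add_zero, add_zero] at h
    exact ⟨(smul_eq_zero.mp h).resolve_right hx0, rfl, rfl⟩

/-! ## General points -/

theorem isPolyMap_T : IsPolyMap k (fun p : ((Fin 5 → k) × (Fin 5 → k)) => T p.1 p.2) := by
  have h : (fun p : ((Fin 5 → k) × (Fin 5 → k)) => T p.1 p.2) =
      fun p => ∑ i, ∑ j, (p.1 i * p.2 j) • T (Pi.single i 1) (Pi.single j 1) := by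
    funext p
    have h1 : ∀ u : Fin 5 → k, u = ∑ i, u i • (Pi.single i 1 : Fin 5 → k) := fun u => by
      conv_lhs => rw [← Finset.univ_sum_single u]
      refine Finset.sum_congr rfl fun i _ => ?_
      rw [← Pi.single_smul, smul_eq_mul, mul_one]
    conv_lhs => rw [h1 p.1, h1 p.2]
    simp only [map_sum, LinearMap.sum_apply, map_smul, LinearMap.smul_apply, smul_smul, Finset.smul_sum]
    rw [Finset.sum_comm]
    exact Finset.sum_congr rfl fun i _ => Finset.sum_congr rfl fun j _ => by rw [mul_comm]
  rw [h]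
  intro l
  have h2 : (fun p : ((Fin 5 → k) × (Fin 5 → k)) =>
      l (∑ i, ∑ j, (p.1 i * p.2 j) • T (Pi.single i 1) (Pi.single j 1))) =
      fun p => ∑ i, ∑ j, (p.1 i * p.2 j) * l (T (Pi.single i 1) (Pi.single j 1)) := by
    funext p
    simp only [map_sum, map_smul, smul_eq_mul]
  rw [h2]
  refine pf_sum _ fun i _ => pf_sum _ fun j _ => pf_mul (pf_mul ?_ ?_) (isPolyFun_const _)
  · exact isPolyFun_linear' ((LinearMap.proj i).comp (LinearMap.fst k (Fin 5 → k) (Fin 5 → k)))
  · exact isPolyFun_linear' ((LinearMap.proj j).comp (LinearMap.snd k (Fin 5 → k) (Fin 5 → k)))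

/-- Being of first type is an open condition. -/
theorem isZOpen_first : IsZOpen k {p : (Fin 5 → k) × (Fin 5 → k) | First T p.1 p.2} := by
  have h := K713.RangeOpen.isZOpen_linearIndependent (k := k)
    (V := (Fin 5 → k) × (Fin 5 → k)) (W := (Fin 5 → k) →ₗ[k] k) (r := 3)
    ![fun p => T p.1 p.1, fun p => T p.1 p.2, fun p => T p.2 p.2] (by
      intro i
      have h1 : IsPolyMap k (fun p : (Fin 5 → k) × (Fin 5 → k) => T p.1 p.1) :=
        pm_comp (φ := fun p : (Fin 5 → k) × (Fin 5 → k) => T p.1 p.2) isPolyMap_T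
          (ψ := fun p : (Fin 5 → k) × (Fin 5 → k) => (p.1, p.1)) (pm_prodMk isPolyMap_fst isPolyMap_fst)
      have h2 : IsPolyMap k (fun p : (Fin 5 → k) × (Fin 5 → k) => T p.2 p.2) :=
        pm_comp (φ := fun p : (Fin 5 → k) × (Fin 5 → k) => T p.1 p.2) isPolyMap_T
          (ψ := fun p : (Fin 5 → k) × (Fin 5 → k) => (p.2, p.2)) (pm_prodMk isPolyMap_snd isPolyMap_snd)
      fin_cases i
      · exact h1
      · exact isPolyMap_T (T := T)
      · exact h2)
  refine (isZOpen_congr fun p => ?_).1 h
  have : (fun i => (![fun p : (Fin 5 → k) × (Fin 5 → k) => T p.1 p.1, fun p => T p.1 p.2, fun p => T p.2 p.2] :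
      Fin 3 → _) i p) = ![T p.1 p.1, T p.1 p.2, T p.2 p.2] := by
    funext i
    fin_cases i <;> rfl
  simp only [Set.mem_ofPred_eq]
  rw [this]
  rfl

/-- Being of first type depends only on the line. -/
theorem First.of_comb (hT : IsSym3 T) {x p : Fin 5 → k} {a b c d : k} (h : First T (a • x + b • p) (c • x + d • p)) :
    First T x p := by
  unfold First at h ⊢
  rw [linearIndependent_iff_card_le_finrank_span, Fintype.card_fin, Set.finrank]
  have h1 : finrank k (Submodule.span k (Set.range ![T (a • x + b • p) (a • x + b • p),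
      T (a • x + b • p) (c • x + d • p), T (c • x + d • p) (c • x + d • p)])) = 3 := by
    rw [finrank_span_eq_card h, Fintype.card_fin]
  refine h1.symm.le.trans (Submodule.finrank_mono ?_)
  rw [Submodule.span_le]
  have hs : ∀ u v w : k, u • T x x + v • T x p + w • T p p ∈
      Submodule.span k (Set.range ![T x x, T x p, T p p]) := fun u v w =>
    Submodule.add_mem _ (Submodule.add_mem _ (Submodule.smul_mem _ _ (Submodule.subset_span ⟨0, rfl⟩))
      (Submodule.smul_mem _ _ (Submodule.subset_span ⟨1, rfl⟩)))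
      (Submodule.smul_mem _ _ (Submodule.subset_span ⟨2, rfl⟩))
  have hpx : T p x = T x p := by
    ext w
    simp [hT.s12 p x]
  have he : ∀ a b c d : k, T (a • x + b • p) (c • x + d • p) =
      (a * c) • T x x + (a * d + b * c) • T x p + (b * d) • T p p := fun a b c d => by
    simp only [map_add, map_smul, LinearMap.add_apply, LinearMap.smul_apply, hpx]
    module
  rintro _ ⟨i, rfl⟩
  fin_cases i
  · change T (a • x + b • p) (a • x + b • p) ∈ _
    rw [he]
    exact hs _ _ _
  · change T (a • x + b • p) (c • x + d • p) ∈ _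
    rw [he]
    exact hs _ _ _
  · change T (c • x + d • p) (c • x + d • p) ∈ _
    rw [he]
    exact hs _ _ _

/-- **CL6**: three lines through a general point. -/
theorem exists_three [IsAlgClosed k] [CharZero k] (hT : IsSym3 T) (_hsm : SmoothOn T ⊤)
    (hgen : ∀ B : Set ((Fin 5 → k) × (Fin 5 → k)), IsZOpen k Bᶜ →
      (∀ x p : Fin 5 → k, (x, p) ∈ FR T → (x, p) ∈ B → ∀ a b c d : k, a * d - b * c ≠ 0 →
        (a • x + b • p, c • x + d • p) ∈ B) → ¬ FR T ⊆ B →
      ∃ O : Set (Fin 5 → k), IsZOpen k O ∧ (X0 T ∩ O).Nonempty ∧ ∀ x ∈ O, T x x x = 0 → x ≠ 0 ∧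
        ∀ p, (x, p) ∈ FR T → (x, p) ∉ B)
    (hfirst : ∃ x p, (x, p) ∈ FR T ∧ First T x p) :
    ∃ O : Set (Fin 5 → k), IsZOpen k O ∧ (X0 T ∩ O).Nonempty ∧ ∀ x ∈ O, T x x x = 0 →
      ∃ p : Fin 3 → Fin 5 → k, (∀ i, (x, p i) ∈ FR T) ∧ ∀ i j, i ≠ j → LinearIndependent k ![x, p i, p j] := by
  obtain ⟨O, hO, hne, h⟩ := hgen {p | First T p.1 p.2}ᶜ (by rw [compl_compl]; exact isZOpen_first)
    (fun x p _ hxp a b c d _ => fun hf => hxp (First.of_comb hT hf)) (by
      obtain ⟨x, p, hxp, hf⟩ := hfirst
      exact fun hsub => hsub hxp hf)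
  refine ⟨O, hO, hne, fun x hx hx0 => ?_⟩
  obtain ⟨h1, h2⟩ := h x hx hx0
  exact three_of_first hT h1 hx0 fun p hp => not_not.mp (h2 p hp)

end K40.ThreeLines
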